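import Mathlib

/-!
# BZ / L, `l = 2` : lattices (helper5)

`Sep Λ` : the functionals separate the points; `mk4` : Minkowski's lemma modulo four; `prim` : a primitive functional negated by an
involution; `Rf s x u` : `s` is the reflection `v ↦ v - 2 x(v) u`; `exists_rf`, `three`, `no_sq`.
-/

set_option autoImplicit false

namespace Cfsg.Agent.BZ.L.F2

variable {Λ : Type} [AddCommGroup Λ]

/-- the functionals separate the points -/
def Sep (Λ : Type) [AddCommGroup Λ] : Prop := ∀ v : Λ, (∀ f : Λ →ₗ[ℤ] ℤ, f v = 0) → v = 0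

theorem Sep.cancel (h : Sep Λ) {c : ℤ} (hc : c ≠ 0) {u v : Λ} (e : c • u = c • v) : u = v :=
  sub_eq_zero.1 (h _ fun f => mul_left_cancel₀ hc (by rw [← smul_eq_mul, ← map_smul, smul_sub, e, sub_self, map_zero, mul_zero]))

theorem int_div {c : ℤ} (hc : 1 < c) {z : ℤ} (h : ∀ j : ℕ, c ^ j ∣ z) : z = 0 := by
  refine Int.eq_zero_of_abs_lt_dvd (h z.natAbs) ?_
  lift c to ℕ using by omega
  rw [Int.abs_eq_natAbs]
  exact_mod_cast Nat.lt_pow_self (by exact_mod_cast hc)

/-- divisible sets are trivial -/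
theorem Sep.div (h : Sep Λ) {c : ℤ} (hc : 1 < c) {U : Λ → Prop} (hU : ∀ w, U w → ∃ w', U w' ∧ w = c • w') {w : Λ} (hw : U w) : w = 0 := by
  refine h w fun f => int_div hc fun j => ?_
  induction j generalizing w with
  | zero => exact pow_zero c ▸ one_dvd _
  | succ j ih =>
    obtain ⟨w', h1, rfl⟩ := hU w hw
    rw [map_smul, smul_eq_mul, pow_succ']
    exact mul_dvd_mul_left c (ih h1)

theorem pow_cong {c : ℤ} {g : Module.End ℤ Λ} (hg : ∀ v, ∃ u, g v = v + c • u) (i : ℕ) (v : Λ) : ∃ u, (g ^ i) v = v + c • u := by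
  induction i with
  | zero => exact ⟨0, by simp⟩
  | succ i ih =>
    obtain ⟨u, e⟩ := ih
    obtain ⟨u', e'⟩ := hg ((g ^ i) v)
    exact ⟨u + u', by rw [pow_succ', Module.End.mul_apply, e', e, smul_add, add_assoc]⟩

theorem sum_cong {c : ℤ} {g : Module.End ℤ Λ} (hg : ∀ v, ∃ u, g v = v + c • u) (n : ℕ) (v : Λ) :
    ∃ u, (∑ i ∈ Finset.range n, g ^ i) v = (n : ℤ) • v + c • u := by
  induction n with
  | zero => exact ⟨0, by simp⟩
  | succ n ih =>
    obtain ⟨u, e⟩ := ih
    obtain ⟨u', e'⟩ := pow_cong hg n v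
    exact ⟨u + u', by rw [Finset.sum_range_succ, LinearMap.add_apply, e, e']; push_cast; module⟩

/-- **Minkowski's lemma** -/
theorem mk4 (h : Sep Λ) {m : ℕ} (hm : m ≠ 0) {g : Module.End ℤ Λ} (hg : ∀ v, ∃ u, g v = v + (4 : ℤ) • u) (e : g ^ m = 1) : g = 1 := by
  induction m using induction_on_primes generalizing g with
  | zero => exact absurd rfl hm
  | one => rwa [pow_one] at e
  | prime_mul l a hl ih =>
    have h1 : g ^ l = 1 := ih (right_ne_zero_of_mul hm) (pow_cong hg l) (by rwa [← pow_mul])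
    ext v
    refine sub_eq_zero.1 (h.div one_lt_two (U := fun w => (∑ i ∈ Finset.range l, g ^ i) w = 0) (fun w hw => ?_) ?_)
    · obtain ⟨u, h2⟩ := sum_cong hg l w
      obtain ⟨w', rfl⟩ : ∃ w', w = (2 : ℤ) • w' := by
        rw [hw] at h2
        rcases hl.eq_two_or_odd' with rfl | ⟨k, rfl⟩
        · exact ⟨-u, h.cancel two_ne_zero (by push_cast at h2; linear_combination (norm := module) -h2)⟩
        · exact ⟨-((k : ℤ) • w + (2 : ℤ) • u), by push_cast at h2; linear_combination (norm := module) -h2⟩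
      exact ⟨w', h.cancel two_ne_zero (by rw [← map_smul, hw, smul_zero]), rfl⟩
    · have h2 := congrArg (fun f : Module.End ℤ Λ => f v) (geom_sum_mul g l)
      simpa only [h1, sub_self, Module.End.mul_apply, LinearMap.sub_apply, LinearMap.zero_apply] using h2

/-- `x` is negated by `s` -/
def An (s : Module.End ℤ Λ) (x : Λ →ₗ[ℤ] ℤ) : Prop := ∀ v, x (s v) = -x v

theorem exists_quot {f : Λ →ₗ[ℤ] ℤ} {c : ℤ} (hc : c ≠ 0) (h : ∀ v, c ∣ f v) : ∃ x : Λ →ₗ[ℤ] ℤ, ∀ v, f v = c * x v := by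
  choose x hx using h
  exact ⟨(AddMonoidHom.mk' x fun u v => mul_left_cancel₀ hc (by rw [mul_add, ← hx, ← hx, ← hx, map_add])).toIntLinearMap, hx⟩

theorem an_comp {s : Module.End ℤ Λ} (hs : s * s = 1) (f : Λ →ₗ[ℤ] ℤ) : An s (f ∘ₗ (s - 1)) := fun v => by
  have e : s (s v) = v := congrArg (fun g : Module.End ℤ Λ => g v) hs
  simp only [LinearMap.comp_apply, LinearMap.sub_apply, e, Module.End.one_apply, map_sub, neg_sub]

theorem An.quot {s : Module.End ℤ Λ} {f x : Λ →ₗ[ℤ] ℤ} (h : An s f) {c : ℤ} (hc : c ≠ 0) (e : ∀ v, f v = c * x v) : An s x :=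
  fun v => mul_left_cancel₀ hc (by rw [← e, h, e, mul_neg])

/-- a primitive functional negated by an involution -/
theorem prim (h : Sep Λ) {s : Module.End ℤ Λ} (hs : s * s = 1) (h1 : s ≠ 1) : ∃ x u, An s x ∧ x u = 1 := by
  obtain ⟨v, hv⟩ := not_forall.1 fun e => h1 (LinearMap.ext e)
  obtain ⟨f, hf⟩ := not_forall.1 fun e => hv (sub_eq_zero.1 (h _ e))
  obtain ⟨c, hc⟩ := (IsPrincipalIdealRing.principal (LinearMap.range (f ∘ₗ (s - 1)))).principal
  have h2 : ∀ v, c ∣ (f ∘ₗ (s - 1)) v := fun v => Ideal.mem_span_singleton.1 (hc ▸ LinearMap.mem_range_self _ v :)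
  have h3 : c ≠ 0 := fun e => hf (zero_dvd_iff.1 (e ▸ h2 v))
  obtain ⟨x, hx⟩ := exists_quot h3 h2
  obtain ⟨u, hu⟩ : c ∈ LinearMap.range (f ∘ₗ (s - 1)) := hc ▸ Submodule.mem_span_singleton_self c
  exact ⟨x, u, (an_comp hs f).quot h3 hx, mul_left_cancel₀ h3 (by rw [← hx, hu, mul_one])⟩

/-- the reflection `v ↦ v - 2 x(v) u` -/
structure Rf (s : Module.End ℤ Λ) (x : Λ →ₗ[ℤ] ℤ) (u : Λ) : Prop where
  one : x u = 1
  eq : ∀ v, s v = v - (2 * x v) • u

theorem Rf.neg {s : Module.End ℤ Λ} {x : Λ →ₗ[ℤ] ℤ} {u : Λ} (h : Rf s x u) : s u = -u := by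
  rw [h.eq, h.one]
  module

theorem exists_rf (h : Sep Λ) {s : Module.End ℤ Λ} (hs : s * s = 1) (h1 : s ≠ 1) {y w : Λ} (hy : s y = y + (2 : ℤ) • w)
    (H : ∀ x, An s x → Even (x y) → ∀ v, Even (x v)) : ∃ x u, Rf s x u := by
  obtain ⟨x, u, h2, h3⟩ := prim h hs h1
  have h4 : Odd (x y) := Int.not_even_iff_odd.1 fun e => by simpa [h3] using H x h2 e u
  have h5 : ∀ v, x v = 0 → ∀ f, An s f → f v = 0 := fun v hv f hf => int_div one_lt_two fun j => by
    induction j generalizing f with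
    | zero => exact one_dvd _
    | succ j ih =>
      have h6 : An s (f - f y • x) := fun v => by simp only [LinearMap.sub_apply, LinearMap.smul_apply, hf v, h2 v]; ring
      obtain ⟨g, hg⟩ := exists_quot two_ne_zero fun v => (H _ h6 (by
        rw [LinearMap.sub_apply, LinearMap.smul_apply, smul_eq_mul, ← mul_one_sub]
        exact (odd_one.sub_odd h4).mul_left _) v).two_dvd
      have h7 := hg v
      rw [LinearMap.sub_apply, LinearMap.smul_apply, hv, smul_zero, sub_zero] at h7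
      rw [h7, pow_succ']
      exact mul_dvd_mul_left 2 (ih g (h6.quot two_ne_zero hg))
  have h6 : ∀ v, s v = v + x v • (s u - u) := fun v => by
    have h7 := h ((s - 1) (v - x v • u)) fun f => h5 (v - x v • u)
      (by rw [map_sub, map_smul, h3, smul_eq_mul, mul_one, sub_self]) (f ∘ₗ (s - 1)) (an_comp hs f)
    simp only [LinearMap.sub_apply, map_sub, map_smul, Module.End.one_apply] at h7
    linear_combination (norm := module) h7
  obtain ⟨k, hk⟩ := h4
  have h7 := h6 y
  rw [hy, hk] at h7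
  have h8 : s u - u = (-2 : ℤ) • (k • (s u - u) - w) := by linear_combination (norm := module) -h7
  refine ⟨x, k • (s u - u) - w, ?_, fun v => ?_⟩
  · have h9 := congrArg x h8
    rw [map_smul, map_sub x (s u), h2, h3, smul_eq_mul] at h9
    omega
  · rw [h6 v]
    linear_combination (norm := module) x v • h8

/-- the product of two such reflections is not such a reflection -/
theorem three {s s' : Module.End ℤ Λ} {x x' x'' : Λ →ₗ[ℤ] ℤ} {u u' u'' : Λ} (h : Rf s x u) (h' : Rf s' x' u')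
    (h'' : Rf (s * s') x'' u'') : False := by
  have k : ∀ v (f : Λ →ₗ[ℤ] ℤ), x'' v * f u'' = x' v * f u' + x v * f u - 2 * (x' v * x u' * f u) := fun v f => by
    have e := congrArg f (h''.eq v)
    rw [Module.End.mul_apply, h.eq, h'.eq] at e
    simp only [map_sub, map_smul, smul_eq_mul] at e
    linarith
  have a1 := k u x
  have a2 := k u' x'
  have a3 := k u'' x''
  have a4 := k u' x''
  have a5 := k u x''
  have a6 := k u'' x
  have a7 := k u'' x'
  simp only [h.one, h'.one, h''.one] at a1 a2 a3 a4 a5 a6 a7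
  have a8 : (1 : ℤ) = 2 * (1 - x' u * x u' + (x' u * x u' - x u' * x' u) - x' u'' * x u' * x'' u) := by linear_combination a3 + a1 + a2
  omega

/-- such a reflection is not a square -/
theorem no_sq (hS : Sep Λ) {g : Module.End ℤ Λ} {x : Λ →ₗ[ℤ] ℤ} {u : Λ} (h : Rf (g * g) x u) : False := by
  have h1 : g u = x (g u) • u := hS.cancel two_ne_zero (by
    have e := h.eq (g u)
    rw [show (g * g) (g u) = g ((g * g) u) from rfl, h.neg, map_neg] at e
    linear_combination (norm := module) -e)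
  have h2 := congrArg x h.neg
  rw [Module.End.mul_apply, h1, map_smul, map_smul, map_neg, h.one, smul_eq_mul] at h2
  nlinarith [mul_self_nonneg (x (g u))]

end Cfsg.Agent.BZ.L.F2
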