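import Cfsg.Agent.BZ.L.Defs
import Cfsg.Agent.BZ.L.F2.Lin
import Cfsg.Agent.CharactersDeep.ElemExt

/-!
# BZ / L, `l = 2` : the end game in an abstract group (helper5)

* `exists_stab`, `avg`, `exists_inv` : orbits of characters; `two_dvd`;
* `LF P Q S n a ι` : `S` acts on a lattice with kernel `C(P)`, and `ι` embeds the lattice modulo `n` into `Q`;
* `LF.odd` : the case without involutions; **`LF.main`** : `D / Z` is abelian, or the residual configuration.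
-/

set_option autoImplicit false
set_option linter.unusedSectionVars false

namespace Cfsg.Agent.BZ.L.F2

open Subgroup

variable {K : Type} [Group K] [Finite K] {Z D P Q S E : Subgroup K}

theorem two_dvd {G : Type*} [Group G] {H : Subgroup G} {t : G} (h1 : t ∉ H) (h2 : t * t ∈ H) (h3 : ∀ g ∈ H, t * g * t⁻¹ ∈ H) :
    2 ∣ H.index := by
  have h4 : t ∈ normalizer (H : Set G) := mem_normalizer_iff.2 fun g => ⟨h3 g, fun hg => by
    have h5 := mul_mem (mul_mem (inv_mem h2) (h3 _ hg)) h2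
    rwa [show (t * t)⁻¹ * (t * (t * g * t⁻¹) * t⁻¹) * (t * t) = g by group] at h5⟩
  have h5 : orderOf (QuotientGroup.mk (s := H.subgroupOf (normalizer (H : Set G))) ⟨t, h4⟩) = 2 :=
    orderOf_eq_prime (by rw [sq, ← QuotientGroup.mk_mul, QuotientGroup.eq_one_iff]; exact h2)
      fun e => h1 ((QuotientGroup.eq_one_iff (N := H.subgroupOf (normalizer (H : Set G))) ⟨t, h4⟩).1 e)
  exact (h5 ▸ _root_.orderOf_dvd_natCard _).trans (relIndex_dvd_index_of_le le_normalizer)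

/-- the action on the characters -/
@[reducible] def act (hS : S ≤ normalizer (Q : Set K)) : MulAction S (Q →* ℂˣ) where
  smul g θ := θ.comp (Q.normalizerMonoidHom ⟨g, hS g.2⟩⁻¹).toMonoidHom
  one_smul θ := MonoidHom.ext fun y => congrArg θ (Subtype.ext (show (1 : K)⁻¹ * y * (1 : K)⁻¹⁻¹ = y by group))
  mul_smul g h θ := MonoidHom.ext fun y => congrArg θ (Subtype.ext
    (show ((g : K) * h)⁻¹ * y * ((g : K) * h)⁻¹⁻¹ = (h : K)⁻¹ * ((g : K)⁻¹ * y * (g : K)⁻¹⁻¹) * (h : K)⁻¹⁻¹ by group))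

theorem act_iff (hS : S ≤ normalizer (Q : Set K)) (g : S) (θ θ' : Q →* ℂˣ) :
    (act hS).smul g θ = θ' ↔ ∀ y y' : Q, (y' : K) = g * y * (g : K)⁻¹ → θ' y' = θ y := by
  refine ⟨fun e y y' h => e ▸ congrArg θ (Subtype.ext ?_), fun h => MonoidHom.ext fun y => (h _ y ?_).symm⟩
  · show (g : K)⁻¹ * y' * (g : K)⁻¹⁻¹ = y
    rw [h]
    group
  · show (y : K) = g * ((g : K)⁻¹ * y * (g : K)⁻¹⁻¹) * (g : K)⁻¹
    group

theorem exists_stab (hS : S ≤ normalizer (Q : Set K)) (θ : Q →* ℂˣ) : ∃ H : Subgroup S, H.index = (OrbC Q S θ).ncard ∧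
    ∀ g : S, g ∈ H ↔ ∀ y y' : Q, (y' : K) = g * y * (g : K)⁻¹ → θ y' = θ y := by
  let _ := act hS
  refine ⟨MulAction.stabilizer S θ, (MulAction.index_stabilizer S θ).trans (congrArg _ (Set.ext fun θ' => ?_)), fun g => act_iff hS g θ θ⟩
  exact ⟨fun ⟨g, e⟩ => ⟨g, g.2, (act_iff hS g θ θ').1 e⟩, fun ⟨g, hg, e⟩ => ⟨⟨g, hg⟩, (act_iff hS _ θ θ').2 e⟩⟩

/-- the product over an orbit -/
theorem avg (hE : E ≤ normalizer (Q : Set K)) {C : Subgroup K} (hC : C ≤ centralizer (Q : Set K)) (θ₁ : Q →* ℂˣ) :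
    ∃ (θ : Q →* ℂˣ) (k : ℕ), k ∣ C.relIndex E ∧ Inv Q E θ ∧ ∀ y : Q, (∀ e ∈ E, e * y = y * e) → θ y = θ₁ y ^ k := by
  let _ := act hE
  have := Fintype.ofFinite (MulAction.orbit E θ₁)
  refine ⟨∏ o : MulAction.orbit E θ₁, o.1, Fintype.card (MulAction.orbit E θ₁), ?_, fun g hg y y' e => ?_, fun y hy => ?_⟩
  · rw [← Nat.card_eq_fintype_card, Nat.card_coe_set_eq, ← MulAction.index_stabilizer]
    exact index_dvd_of_le fun g hg => (act_iff hE g _ _).2 fun y y' e => congrArg θ₁ (Subtype.ext (by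
      rw [e, ← show (y : K) * g = g * y from hC hg y y.2, mul_inv_cancel_right]))
  · rw [MonoidHom.finsetProd_apply, MonoidHom.finsetProd_apply,
      ← Equiv.prod_comp (MulAction.toPerm (⟨g, hg⟩ : E)) fun o : MulAction.orbit E θ₁ => o.1 y']
    exact Finset.prod_congr rfl fun o _ => (act_iff hE ⟨g, hg⟩ o.1 _).1 rfl y y' e
  · rw [MonoidHom.finsetProd_apply, ← Finset.card_univ, ← Finset.prod_const]
    refine Finset.prod_congr rfl fun o _ => ?_
    obtain ⟨_, g, rfl⟩ := o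
    exact (act_iff hE g θ₁ _).1 rfl y y (by rw [hy g g.2, mul_inv_cancel_right])

theorem exists_inv (R : Res 2 Z D P Q S) (hZ : Z ≤ center K) (θ₁ : Q →* ℂˣ) (h : ∀ z : Q, (z : K) ∈ Z → θ₁ z = 1) :
    ∃ (H : Subgroup S) (θ : Q →* ℂˣ) (k : ℕ), ¬ 2 ∣ H.index ∧ Odd k ∧ (∀ g : S, (g : K) ∈ centralizer (P : Set K) → g ∈ H) ∧
      (∀ g ∈ H, ∀ y y' : Q, (y' : K) = g * y * (g : K)⁻¹ → θ y' = θ y) ∧
      ∀ y : Q, (∀ e ∈ S ⊓ centralizer (P : Set K), e * y = y * e) → θ y = θ₁ y ^ k := by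
  obtain ⟨θ, k, h1, h2, h3⟩ := avg (E := S ⊓ centralizer (P : Set K)) (inf_le_left.trans R.sq)
    (C := centralizer (P : Set K) ⊓ centralizer (Q : Set K)) inf_le_right θ₁
  obtain ⟨H, h4, h5⟩ := exists_stab R.sq θ
  exact ⟨H, θ, k, h4 ▸ R.orb θ (fun z hz => by rw [h3 z fun e _ => mem_center_iff.1 (hZ hz) e, h z hz, one_pow]) h2,
    Nat.not_even_iff_odd.1 fun e => R.reg (e.two_dvd.trans h1), fun g hg => (h5 g).2 (h2 g ⟨g.2, hg⟩), fun g => (h5 g).1, h3⟩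

theorem ext_ker {A B : Type} [Group A] [Finite A] [Group B] (hc : ∀ a b : A, a * b = b * a) (j : B →* A) (β : B →* ℂˣ)
    (h : j.ker ≤ β.ker) : ∃ θ : A →* ℂˣ, ∀ b, θ (j b) = β b :=
  let ⟨θ, e⟩ := CharactersDeep.ElemExt.exists_ext_of_injective hc (QuotientGroup.kerLift j) (QuotientGroup.kerLift_injective j)
    (QuotientGroup.lift j.ker β h)
  ⟨θ, fun b => e (QuotientGroup.mk b)⟩

theorem exists_sep (hQ : Q ≤ centralizer (Q : Set K)) (c : Q) (hc : (c : K) ∉ Z) :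
    ∃ θ : Q →* ℂˣ, (∀ z : Q, (z : K) ∈ Z → θ z = 1) ∧ θ c ≠ 1 := by
  let _ : CommGroup Q := { (inferInstance : Group Q) with mul_comm := fun a b => Subtype.ext (hQ b.2 a a.2) }
  have : NeZero ((Monoid.exponent Q : ℕ) : ℂ) := ⟨Nat.cast_ne_zero.2 Monoid.exponent_ne_zero_of_finite⟩
  by_contra! h
  exact hc ((CommGroup.forall_monoidHom_apply_eq_one_iff ℂ (Z.subgroupOf Q) c).1 h)

theorem cop {G : Type*} [Group G] {e y : G} {k : ℕ} (hk : Odd k) (h1 : e ^ k * y = y * e ^ k) (h2 : Commute e (e * y * e⁻¹ * y⁻¹))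
    (h3 : e * y * e⁻¹ * y⁻¹ * (e * y * e⁻¹ * y⁻¹) = 1) : e * y = y * e := by
  obtain ⟨c, hc⟩ : ∃ c, c = e * y * e⁻¹ * y⁻¹ := ⟨_, rfl⟩
  rw [← hc] at h2 h3
  have h4 : e * y = c * y * e := by rw [hc]; group
  have h5 : ∀ j : ℕ, e ^ j * y = c ^ j * y * e ^ j := fun j => by
    induction j with
    | zero => simp
    | succ j ih => rw [pow_succ', mul_assoc, ih, ← mul_assoc, ← mul_assoc, (h2.pow_right j).eq, mul_assoc _ e, h4, pow_succ c]; group
  obtain ⟨j, rfl⟩ := hk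
  have h6 := h1.symm.trans (h5 _)
  rw [pow_succ c, pow_mul c, sq, h3, one_pow, one_mul] at h6
  exact h4.trans (by rw [← mul_right_cancel h6])

variable {Λ : Type} [AddCommGroup Λ]

/-- the lattice frame -/
structure LF (P Q S : Subgroup K) (n : ℤ) (a : S →* Module.End ℤ Λ) (ι : Λ → K) : Prop where
  sep : Sep Λ
  ker : ∀ g : S, a g = 1 ↔ (g : K) ∈ centralizer (P : Set K)
  add : ∀ u v, ι (u + v) = ι u * ι v
  mem : ∀ v, ι v ∈ Q
  one : ∀ v, ι v = 1 ↔ ∃ u, v = n • u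
  conj : ∀ (g : S) v, g * ι v * (g : K)⁻¹ = ι (a g v)

/-- the stabiliser of a functional modulo four -/
def Hx (a : S →* Module.End ℤ Λ) (x : Λ →ₗ[ℤ] ℤ) : Subgroup S where
  carrier := {g | ∀ v, 4 ∣ x (a g v) - x v}
  one_mem' v := by simp
  mul_mem' {g h} hg hh v := by
    rw [map_mul, Module.End.mul_apply, ← sub_add_sub_cancel _ (x (a h v))]
    exact dvd_add (hg _) (hh _)
  inv_mem' {g} hg v := by
    have h := (hg (a g⁻¹ v)).neg_right
    rwa [← Module.End.mul_apply, ← map_mul, mul_inv_cancel, map_one, Module.End.one_apply, neg_sub] at h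

namespace LF

variable {n : ℤ} {a : S →* Module.End ℤ Λ} {ι : Λ → K} (L : LF P Q S n a ι)
include L

theorem zero : ι 0 = 1 := (L.one 0).2 ⟨0, (smul_zero n).symm⟩

theorem neg (v : Λ) : ι (-v) = (ι v)⁻¹ := eq_inv_of_mul_eq_one_left (by rw [← L.add, neg_add_cancel, L.zero])

theorem eq_iff {u v : Λ} : ι u = ι v ↔ ∃ w, u = v + n • w := by
  rw [← mul_inv_eq_one, ← L.neg, ← L.add, L.one]
  exact exists_congr fun w => by rw [← sub_eq_add_neg, sub_eq_iff_eq_add']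

theorem cen (v : Λ) : ∀ e ∈ S ⊓ centralizer (P : Set K), e * ι v = ι v * e := fun e he => by
  have h := L.conj ⟨e, he.1⟩ v
  rw [(L.ker _).2 he.2] at h
  exact mul_inv_eq_iff_eq_mul.1 h

variable (R : Res 2 Z D P Q S) (hZ : Z ≤ center K) (hQ : Q ≤ centralizer (Q : Set K))
include R hZ hQ

theorem odd_Hx {x : Λ →ₗ[ℤ] ℤ} (hz : ∀ v, ι v ∈ Z → 4 ∣ x v) : ¬ 2 ∣ (Hx a x).index := by
  obtain ⟨I, hI⟩ : ∃ I : ℂˣ, orderOf I = 4 := ⟨Units.mk0 Complex.I Complex.I_ne_zero, by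
    rw [← orderOf_units]
    exact Complex.isPrimitiveRoot_I.eq_orderOf.symm⟩
  let j : Multiplicative Λ × Z →* Q := MonoidHom.mk' (fun b => ⟨ι b.1.toAdd * b.2, mul_mem (L.mem _) (R.zq b.2.2)⟩) fun b c =>
    Subtype.ext (by
      show ι (b.1.toAdd + c.1.toAdd) * (b.2 * c.2) = ι b.1.toAdd * b.2 * (ι c.1.toAdd * c.2)
      rw [L.add, mul_assoc, mul_assoc, ← mul_assoc (b.2 : K), ← mem_center_iff.1 (hZ b.2.2) (ι _), mul_assoc])
  obtain ⟨θ₁, h1⟩ := ext_ker (fun a b : Q => Subtype.ext (hQ b.2 a a.2)) j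
    (MonoidHom.mk' (fun b => I ^ x b.1.toAdd) fun b c => by rw [← zpow_add, ← map_add]; rfl) fun b hb => by
      have h2 : ι b.1.toAdd * b.2 = 1 := congrArg Subtype.val hb
      exact orderOf_dvd_iff_zpow_eq_one.1 (hI ▸ hz _ (eq_inv_of_mul_eq_one_left h2 ▸ inv_mem b.2.2))
  obtain ⟨H, θ, k, h2, h3, -, h4, h5⟩ := exists_inv R hZ θ₁ fun z hz => by
    have h3 := h1 (1, ⟨z, hz⟩)
    rwa [show j (1, ⟨z, hz⟩) = z from Subtype.ext ((congrArg (· * (z : K)) L.zero).trans (one_mul _)), MonoidHom.mk'_apply,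
      toAdd_one, map_zero, zpow_zero] at h3
  have h6 : ∀ v, θ ⟨ι v, L.mem v⟩ = I ^ (x v * k) := fun v => by
    rw [h5 _ (L.cen v), zpow_mul, zpow_natCast]
    exact congrArg (· ^ k) ((congrArg θ₁ (Subtype.ext (mul_one _).symm)).trans (h1 (Multiplicative.ofAdd v, 1)))
  refine fun e => h2 (e.trans (index_dvd_of_le fun g hg v => ?_))
  have h7 := h4 g hg ⟨ι v, L.mem v⟩ ⟨ι (a g v), L.mem _⟩ (L.conj g v).symm
  rw [h6, h6, zpow_eq_zpow_iff_modEq, hI] at h7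
  have h8 := h7.symm.dvd
  rw [← sub_mul] at h8
  obtain ⟨m, rfl⟩ := h3
  exact (show IsCoprime (4 : ℤ) ((2 * m + 1 : ℕ) : ℤ) from ⟨m ^ 2, 1 - 2 * m, by push_cast; ring⟩).dvd_of_dvd_mul_right h8

theorem key {t : S} (ht : a t * a t = 1) {x : Λ →ₗ[ℤ] ℤ} (hx : An (a t) x) (hz : ∀ v, ι v ∈ Z → 4 ∣ x v) (v : Λ) : Even (x v) := by
  by_contra h
  refine L.odd_Hx R hZ hQ hz (two_dvd (t := t) (fun e => h ?_) (fun v => by rw [map_mul, ht]; simp) fun g hg v => ?_)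
  · have h1 := e v
    rw [hx] at h1
    exact even_iff_two_dvd.2 (by omega)
  · have h1 := hg (a t⁻¹ v)
    have h2 := hx (a t⁻¹ v)
    rw [← Module.End.mul_apply, ← map_mul, mul_inv_cancel, map_one, Module.End.one_apply] at h2
    rw [map_mul, map_mul, Module.End.mul_apply, Module.End.mul_apply, hx]
    omega

omit hZ hQ in
theorem rel_eq (hD : D ≤ normalizer (Q : Set K)) : Q.relIndex D = 2 ^ a.ker.index.factorization 2 := by
  have := Fact.mk Nat.prime_two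
  obtain ⟨j, hj⟩ := R.pg.index (Q.subgroupOf D)
  have h1 := R.syl
  have h2 : (S ⊓ centralizer (P : Set K)).relIndex S = a.ker.index := by
    rw [inf_relIndex_left]
    exact congrArg _ (Subgroup.ext fun g => (L.ker g).symm)
  rw [inf_eq_left.2 hD, ← relIndex_mul_relIndex _ _ _ (le_inf R.cs inf_le_left) inf_le_left, h2,
    Nat.factorization_mul (show relIndex _ _ ≠ 0 from index_ne_zero_of_finite) index_ne_zero_of_finite, Finsupp.add_apply,
    Nat.factorization_eq_zero_of_not_dvd R.reg, zero_add, relIndex, hj, Nat.prime_two.factorization_pow, Finsupp.single_eq_same] at h1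
  rw [relIndex, hj, h1]

omit hZ in
/-- the case without involutions -/
theorem odd (hD : D ≤ normalizer (Q : Set K)) (h : ∀ t, a t * a t = 1 → a t = 1) : ⁅D, D⁆ ≤ Z := by
  have := Fact.mk Nat.prime_two
  have h1 : ¬ 2 ∣ a.ker.index := fun e => by
    obtain ⟨t, ht⟩ := exists_prime_orderOf_dvd_card' (G := S ⧸ a.ker) 2 e
    obtain ⟨t, rfl⟩ := QuotientGroup.mk_surjective t
    have h2 := pow_orderOf_eq_one (QuotientGroup.mk t : S ⧸ a.ker)
    rw [ht, sq, ← QuotientGroup.mk_mul, QuotientGroup.eq_one_iff, MonoidHom.mem_ker, map_mul] at h2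
    rw [(QuotientGroup.eq_one_iff t).2 (h t h2), orderOf_one] at ht
    omega
  have h2 := L.rel_eq R hD
  rw [Nat.factorization_eq_zero_of_not_dvd h1, pow_zero, relIndex_eq_one] at h2
  exact (commutator_eq_bot_iff_le_centralizer.2 ((h2.trans hQ).trans (centralizer_le h2))).le.trans bot_le

/-- no involutions if the central elements are divisible by four -/
theorem no_inv (hz : ∀ v, ι v ∈ Z → ∃ w, v = (4 : ℤ) • w) (t : S) (ht : a t * a t = 1) : a t = 1 := by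
  by_contra h
  obtain ⟨x, u, h1, h2⟩ := prim L.sep ht h
  have h3 := L.key R hZ hQ ht h1 (fun v hv => by
    obtain ⟨w, rfl⟩ := hz v hv
    exact ⟨x w, map_smul x 4 w⟩) u
  rw [h2] at h3
  exact Int.not_even_one h3

end LF

theorem two_cases (h : Nat.card Z ≤ 2) {y z : K} (hy : y ∈ Z) (hz : z ∈ Z) (h1 : z ≠ 1) : y = 1 ∨ y = z := by
  by_contra! h2
  have := Fintype.ofFinite Z
  rw [Nat.card_eq_fintype_card] at h
  exact absurd (Fintype.two_lt_card_iff.2 ⟨⟨y, hy⟩, 1, ⟨z, hz⟩, fun e => h2.1 (congrArg Subtype.val e),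
    fun e => h2.2 (congrArg Subtype.val e), fun e => h1 (congrArg Subtype.val e).symm⟩) h.not_gt

theorem sq_one (h : Nat.card Z ≤ 2) {z : K} (hz : z ∈ Z) : z * z = 1 := by
  by_cases h1 : z = 1
  · rw [h1, mul_one]
  · exact (two_cases h (mul_mem hz hz) hz h1).resolve_right fun e => h1 (mul_eq_left.1 e)

namespace LF

variable {a : S →* Module.End ℤ Λ} {ι : Λ → K}

/-- the level eight -/
theorem eight (L : LF P Q S 8 a ι) (R : Res 2 Z D P Q S) (hZ : Z ≤ center K) (hQ : Q ≤ centralizer (Q : Set K)) (h2 : Nat.card Z ≤ 2)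
    (hD : D ≤ normalizer (Q : Set K)) : ⁅D, D⁆ ≤ Z :=
  L.odd R hQ hD (L.no_inv R hZ hQ fun v hv => ((L.one (v + v)).1 ((L.add v v).trans (sq_one h2 hv))).imp fun w e =>
    L.sep.cancel two_ne_zero (by linear_combination (norm := module) e))

variable (L : LF P Q S 4 a ι)
include L

theorem mka {g : S} (h : ∀ v, ∃ u, a g v = v + (4 : ℤ) • u) : a g = 1 :=
  mk4 L.sep (orderOf_pos g).ne' h (by rw [← map_pow, pow_orderOf_eq_one, map_one])

theorem mkb {g : S} (h : ∀ y ∈ Q, (g : K) * y = y * g) : a g = 1 :=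
  L.mka fun v => L.eq_iff.1 (by rw [← L.conj, h _ (L.mem v), mul_inv_cancel_right])

variable (R : Res 2 Z D P Q S) (hZ : Z ≤ center K) (hQ : Q ≤ centralizer (Q : Set K)) (h2 : Nat.card Z ≤ 2)
include R hZ hQ h2

theorem rf {v₀ : Λ} (h0 : ι v₀ ∈ Z) (h1 : ι v₀ ≠ 1) {t : S} (ht : a t * a t = 1) (h : a t ≠ 1) : ∃ x u, Rf (a t) x u := by
  obtain ⟨y, hy⟩ := (L.one (v₀ + v₀)).1 ((L.add _ _).trans (sq_one h2 h0))
  obtain rfl : v₀ = (2 : ℤ) • y := L.sep.cancel two_ne_zero (by linear_combination (norm := module) hy)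
  obtain ⟨w, hw⟩ := L.eq_iff.1 ((L.conj t _).symm.trans (by rw [mem_center_iff.1 (hZ h0), mul_inv_cancel_right]))
  refine exists_rf L.sep ht h (y := y) (w := w) (L.sep.cancel two_ne_zero (by
    rw [← map_smul, hw]; module)) fun x hx ⟨c, hc⟩ => L.key R hZ hQ ht hx fun v hv => ?_
  rcases two_cases h2 hv h0 h1 with e | e
  · obtain ⟨u, rfl⟩ := (L.one v).1 e
    exact ⟨x u, map_smul x 4 u⟩
  · obtain ⟨u, rfl⟩ := L.eq_iff.1 e
    exact ⟨c + x u, by rw [map_add, map_smul, map_smul, hc, smul_eq_mul, smul_eq_mul]; ring⟩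

omit R hZ hQ h2 in
theorem uniq (H : ∀ t, a t * a t = 1 → a t ≠ 1 → ∃ x u, Rf (a t) x u) {t t' : S} (ht : a t * a t = 1) (h : a t ≠ 1)
    (ht' : a t' * a t' = 1) (h' : a t' ≠ 1) : a t * a t' = 1 := by
  obtain ⟨x, u, h3⟩ := H t ht h
  obtain ⟨x', u', h4⟩ := H t' ht' h'
  have h5 : ∀ v, ∃ w, a (t * t') v = v + (2 : ℤ) • w := fun v =>
    ⟨-(x' v • u' + x (a t' v) • u), by rw [map_mul, Module.End.mul_apply, h3.eq, h4.eq v]; module⟩
  have h6 := L.mka (g := t * t' * (t * t')) fun v => by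
    obtain ⟨w, e⟩ := h5 v
    obtain ⟨w', e'⟩ := h5 w
    exact ⟨w + w', by rw [map_mul, Module.End.mul_apply, e, map_add, map_smul, e, e']; module⟩
  by_contra h7
  obtain ⟨x'', u'', h8⟩ := H (t * t') (map_mul a _ _ ▸ h6) (map_mul a _ _ ▸ h7)
  exact three h3 h4 (map_mul a _ _ ▸ h8)

omit hZ hQ h2 in
theorem rel_two (hD : D ≤ normalizer (Q : Set K)) (H : ∀ t, a t * a t = 1 → a t ≠ 1 → ∃ x u, Rf (a t) x u) {t : S} (ht : a t * a t = 1)
    (h : a t ≠ 1) : Q.relIndex D = 2 := by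
  have := Fact.mk Nat.prime_two
  have h1 : 2 ^ 1 ∣ a.ker.index := two_dvd (t := t) h (by rw [MonoidHom.mem_ker, map_mul, ht]) fun g hg => a.normal_ker.conj_mem g hg t
  have h3 : ¬ 2 ^ 2 ∣ a.ker.index := fun e => by
    obtain ⟨U, hU⟩ := Sylow.exists_subgroup_card_pow_prime (G := S ⧸ a.ker) 2 e
    have h4 : (U : Set (S ⧸ a.ker)) ⊆ {1, QuotientGroup.mk t} := fun g hg => by
      obtain ⟨g, rfl⟩ := QuotientGroup.mk_surjective g
      have h5 : (QuotientGroup.mk g : S ⧸ a.ker) ^ 2 ^ 2 = 1 := congrArg Subtype.val (hU ▸ pow_card_eq_one' (x := (⟨_, hg⟩ : U)))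
      rw [← QuotientGroup.mk_pow, QuotientGroup.eq_one_iff, MonoidHom.mem_ker, sq, pow_mul, sq, sq, map_mul] at h5
      have h6 : a g * a g = 1 := by
        by_contra h6
        obtain ⟨x, u, h7⟩ := H (g * g) h5 (map_mul a _ _ ▸ h6)
        exact no_sq L.sep (map_mul a _ _ ▸ h7)
      refine (em (a g = 1)).imp (QuotientGroup.eq_one_iff g).2 fun h7 => QuotientGroup.eq.2 ?_
      have h8 : a g⁻¹ = a g := by rw [← mul_one (a g⁻¹), ← h6, ← mul_assoc, ← map_mul, inv_mul_cancel, map_one, one_mul]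
      rw [MonoidHom.mem_ker, map_mul, h8]
      exact L.uniq H h6 h7 ht h
    have h5 := (Set.ncard_le_ncard h4).trans ((Set.ncard_insert_le _ _).trans_eq (by rw [Set.ncard_singleton]))
    rw [← Nat.card_coe_set_eq] at h5
    exact absurd (hU.symm.trans_le h5) (by norm_num)
  have h4 := (Nat.prime_two.pow_dvd_iff_le_factorization (index_ne_zero_of_finite (H := a.ker))).1 h1
  rw [Nat.prime_two.pow_dvd_iff_le_factorization index_ne_zero_of_finite] at h3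
  rw [L.rel_eq R hD, show a.ker.index.factorization 2 = 1 by omega]
  rfl

omit h2 in
theorem fixQ (H : ∀ t, a t * a t = 1 → a t ≠ 1 → ∃ x u, Rf (a t) x u) {t : S} (ht : a t * a t = 1) (h : a t ≠ 1) {y : K} (hy : y ∈ Q)
    (hc : ∀ e ∈ S ⊓ centralizer (P : Set K), e * y = y * e) : t * y * (t : K)⁻¹ * y⁻¹ ∈ Z := by
  by_contra h1
  have h3 : t * y * (t : K)⁻¹ ∈ Q := (mem_normalizer_iff.1 (R.sq t.2) y).1 hy
  obtain ⟨θ₁, h4, h5⟩ := exists_sep hQ ⟨_, mul_mem h3 (inv_mem hy)⟩ h1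
  obtain ⟨U, θ, k, a1, a2, a3, a4, a5⟩ := exists_inv R hZ θ₁ h4
  have h6 : t ∈ U := by
    by_contra h6
    refine a1 (two_dvd h6 (a3 _ ((L.ker _).1 (by rw [map_mul, ht]))) fun g hg => ?_)
    have h7 : ∀ s : S, a (g * s * g⁻¹) = 1 ↔ a s = 1 := fun s =>
      ⟨fun e => by simpa [mul_assoc] using a.normal_ker.conj_mem _ e g⁻¹, fun e => a.normal_ker.conj_mem s e g⟩
    have h8 : a t⁻¹ = a t := by rw [← mul_one (a t⁻¹), ← ht, ← mul_assoc, ← map_mul, inv_mul_cancel, map_one, one_mul]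
    have h9 := L.uniq H ht h (t' := g * t⁻¹ * g⁻¹) (by
      rw [← map_mul, show g * t⁻¹ * g⁻¹ * (g * t⁻¹ * g⁻¹) = g * (t⁻¹ * t⁻¹) * g⁻¹ by group, h7, map_mul, h8, ht]) (by rwa [Ne, h7, h8])
    rw [show t * g * t⁻¹ = t * (g * t⁻¹ * g⁻¹) * g by group]
    exact mul_mem (a3 _ ((L.ker _).1 (by rwa [map_mul]))) hg
  have h7 := a5 ⟨_, mul_mem h3 (inv_mem hy)⟩ fun e he => by
    have h8 := hc _ (show (t : K)⁻¹ * e * t ∈ _ from ⟨(t⁻¹ * ⟨e, he.1⟩ * t).2, (L.ker (t⁻¹ * ⟨e, he.1⟩ * t)).1 (by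
      rw [map_mul, map_mul, (L.ker ⟨e, he.1⟩).2 he.2, mul_one, ← map_mul, inv_mul_cancel, map_one])⟩)
    have h9 : e * y⁻¹ = y⁻¹ * e := (Commute.inv_right (hc e he)).eq
    show e * (t * y * (t : K)⁻¹ * y⁻¹) = t * y * (t : K)⁻¹ * y⁻¹ * e
    rw [mul_assoc _ y⁻¹, ← h9, show e * (t * y * (t : K)⁻¹ * y⁻¹) = t * ((t : K)⁻¹ * e * t * y) * (t : K)⁻¹ * y⁻¹ by group, h8]
    group
  rw [show (⟨_, mul_mem h3 (inv_mem hy)⟩ : Q) = ⟨_, h3⟩ * ⟨y, hy⟩⁻¹ from rfl, map_mul, a4 t h6 ⟨y, hy⟩ _ rfl, map_inv, mul_inv_cancel] at h7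
  obtain ⟨j, hj⟩ := R.pg.to_le R.le (⟨_, h3⟩ * ⟨y, hy⟩⁻¹)
  exact h5 (orderOf_eq_one_iff.1 (Nat.eq_one_of_dvd_coprimes (Nat.Coprime.pow_right j (Nat.coprime_two_right.2 a2))
    (orderOf_dvd_of_pow_eq_one h7.symm) (orderOf_dvd_of_pow_eq_one (by rw [← map_pow]; exact (congrArg θ₁ hj).trans (map_one _)))))

/-- **the end game** -/
theorem main (hD : D ≤ normalizer (Q : Set K)) : ⁅D, D⁆ ≤ Z ∨ ∃ (t : S) (x : Λ →ₗ[ℤ] ℤ) (u : Λ), Rf (a t) x u ∧ ι (u + u) ∈ Z ∧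
    Nat.card D = 2 * Nat.card Q ∧ 16 ≤ Nat.card Q ∧ ∃ y ∈ Q, y * y = 1 ∧ ∃ e ∈ centralizer (P : Set K), e * y ≠ y * e := by
  have := Fact.mk Nat.prime_two
  by_cases h0 : ∀ t, a t * a t = 1 → a t = 1
  · exact Or.inl (L.odd R hQ hD h0)
  obtain ⟨t, ht, h⟩ := by simpa only [not_forall, exists_prop] using h0
  obtain ⟨v₀, b1, b2⟩ : ∃ v, ι v ∈ Z ∧ ι v ≠ 1 := by
    by_contra! h1
    exact h (L.no_inv R hZ hQ (fun v hv => (L.one v).1 (h1 v hv)) t ht)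
  have H : ∀ t, a t * a t = 1 → a t ≠ 1 → ∃ x u, Rf (a t) x u := fun t => L.rf R hZ hQ h2 b1 b2
  have h1 := L.rel_two R hD H ht h
  by_cases h3 : ∀ e ∈ S ⊓ centralizer (P : Set K), ∀ y ∈ Q, e * y = y * e
  · have h4 : ∀ x ∈ D, ∀ y ∈ Q, x * y * x⁻¹ * y⁻¹ ∈ Z := fun x hx y hy => by
      obtain ⟨c, hc, hg⟩ := R.nrm x hx (hD hx)
      have h5 : ∀ y ∈ Q, x * c * y * (x * c)⁻¹ = x * y * x⁻¹ := fun y hy => by rw [mul_assoc x, ← hc y hy]; group
      rw [← h5 y hy]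
      by_cases h6 : a ⟨_, hg⟩ = 1
      · rw [h3 _ ⟨hg, (L.ker _).1 h6⟩ y hy, mul_inv_cancel_right, mul_inv_cancel]
        exact one_mem _
      refine L.fixQ R hZ hQ H (t := ⟨_, hg⟩) (map_mul a _ _ ▸ L.mkb fun y hy => mul_inv_eq_iff_eq_mul.1 ?_) h6 hy fun e he => h3 e he y hy
      have h7 : x * x ∈ Q := mul_self_mem_of_index_two (H := Q.subgroupOf D) h1 ⟨x, hx⟩
      show x * c * (x * c) * y * (x * c * (x * c))⁻¹ = y
      rw [show x * c * (x * c) * y * (x * c * (x * c))⁻¹ = x * c * (x * c * y * (x * c)⁻¹) * (x * c)⁻¹ by group, h5 y hy,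
        h5 _ ((mem_normalizer_iff.1 (hD hx) y).1 hy), show x * (x * y * x⁻¹) * x⁻¹ = x * x * y * (x * x)⁻¹ by group,
        ← hQ h7 y hy, mul_inv_cancel_right]
    refine Or.inl (commutator_le.2 fun x hx x' hx' => ?_)
    rw [commutatorElement_def]
    by_cases h5 : x' ∈ Q
    · exact h4 x hx x' h5
    by_cases h6 : x ∈ Q
    · simpa [mul_assoc] using inv_mem (h4 x' hx' x h6)
    have h7 : x⁻¹ * x' ∈ Q := (mul_mem_iff_of_index_two (H := Q.subgroupOf D) h1 (a := ⟨x, hx⟩⁻¹) (b := ⟨x', hx'⟩)).2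
      (iff_of_false (fun e => h6 (inv_mem_iff.1 e)) h5)
    have h8 := h4 x hx _ h7
    rw [show x * x' * x⁻¹ * x'⁻¹ = x * (x * (x⁻¹ * x') * x⁻¹ * (x⁻¹ * x')⁻¹) * x⁻¹ by group, mem_center_iff.1 (hZ h8), mul_inv_cancel_right]
    exact h8
  obtain ⟨x, u, h4⟩ := H t ht h
  obtain ⟨e, he, y, hy, h5⟩ := by simpa only [not_forall, exists_prop] using h3
  have : ((centralizer (P : Set K) ⊓ centralizer (Q : Set K)).subgroupOf (S ⊓ centralizer (P : Set K))).Normal := ⟨fun c hc g =>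
    ⟨(g * c * g⁻¹).2.2, fun y hy => by
      have h6 : _ * (c : K) = c * _ := hc.2 _ ((mem_normalizer_iff''.1 (R.sq g.2.1) y).1 hy)
      show y * (g * c * (g : K)⁻¹) = g * c * (g : K)⁻¹ * y
      rw [show y * (g * c * (g : K)⁻¹) = g * ((g : K)⁻¹ * y * g * c) * (g : K)⁻¹ by group, h6]
      group⟩⟩
  have h6 := (pow_index_mem (H := (centralizer (P : Set K) ⊓ centralizer (Q : Set K)).subgroupOf (S ⊓ centralizer (P : Set K))) ⟨e, he⟩).2
  have h7 : ∀ y ∈ Q, e * (y * y) = y * y * e → (e * y * e⁻¹ * y⁻¹ * (e * y * e⁻¹ * y⁻¹) = 1 → Commute e (e * y * e⁻¹ * y⁻¹)) →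
      e * y = y * e := fun y hy h7 h8 => by
    have h9 : e * y * e⁻¹ * y⁻¹ * (e * y * e⁻¹ * y⁻¹) = 1 := by
      rw [mul_assoc, ← mul_assoc y⁻¹, hQ ((mem_normalizer_iff.1 (R.sq he.1) y).1 hy) _ (inv_mem hy),
        show e * y * e⁻¹ * (e * y * e⁻¹ * y⁻¹ * y⁻¹) = e * (y * y) * e⁻¹ * (y * y)⁻¹ by group, h7]
      group
    exact cop (Nat.not_even_iff_odd.1 fun e => R.reg e.two_dvd) (h6 y hy).symm (h8 h9) h9
  have h8 : ∀ y ∈ Q, e * y * e⁻¹ * y⁻¹ ∈ Q := fun y hy => mul_mem ((mem_normalizer_iff.1 (R.sq he.1) y).1 hy) (inv_mem hy)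
  refine Or.inr ⟨t, x, u, h4, ?_, ?_, ?_, ?_⟩
  · have h9 := inv_mem (L.fixQ R hZ hQ H ht h (L.mem u) (L.cen u))
    rwa [L.conj, h4.neg, L.neg, mul_inv_rev, inv_inv, ← L.add] at h9
  · rw [← h1, ← Nat.card_congr (subgroupOfEquivOfLe R.le).toEquiv, mul_comm]
    exact (card_mul_index _).symm
  · obtain ⟨j, hj⟩ := (R.pg.to_le R.le).index ((centralizer {e}).subgroupOf Q)
    have h9 : ∀ y : Q, y ∈ (centralizer {e}).subgroupOf Q ↔ e * y = y * e := fun y => mem_centralizer_singleton_iff.trans eq_comm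
    have b3 : 2 ≤ j := by
      by_contra b3
      obtain rfl | rfl : j = 0 ∨ j = 1 := by omega
      · exact h5 ((h9 ⟨y, hy⟩).1 (index_eq_one.1 hj ▸ mem_top _))
      refine h5 (h7 y hy ((h9 _).1 (mul_self_mem_of_index_two hj ⟨y, hy⟩)) fun _ => (h9 ⟨_, h8 y hy⟩).1 ?_)
      refine (mul_mem_iff_of_index_two hj (a := ⟨_, (mem_normalizer_iff.1 (R.sq he.1) y).1 hy⟩) (b := ⟨y, hy⟩⁻¹)).2
        (iff_of_false (fun b4 => h5 ?_) fun b4 => h5 ((h9 ⟨y, hy⟩).1 (inv_mem_iff.1 b4)))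
      have b5 : e * (e * y * e⁻¹) = e * y * e⁻¹ * e := (h9 _).1 b4
      rw [inv_mul_cancel_right] at b5
      exact mul_inv_eq_iff_eq_mul.1 (mul_left_cancel b5)
    have b4 : orderOf (⟨⟨ι u, L.mem u⟩, (h9 _).2 (L.cen u e he)⟩ : (centralizer {e}).subgroupOf Q) = 2 ^ (1 + 1) := by
      refine orderOf_eq_prime_pow (fun b4 => ?_) (Subtype.ext (Subtype.ext ?_))
      · obtain ⟨w, hw⟩ := (L.one (u + u)).1 ((L.add u u).trans ((sq _).symm.trans (congrArg (fun z => (z.1.1 : K)) b4)))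
        have b5 := congrArg x hw
        rw [map_add, map_smul, h4.one, smul_eq_mul] at b5
        omega
      · show ι u ^ 4 = 1
        rw [show ι u ^ 4 = ι u * ι u * (ι u * ι u) by simp only [pow_succ, pow_zero, one_mul, mul_assoc], ← L.add, ← L.add]
        exact (L.one _).2 ⟨u, by module⟩
    rw [← card_mul_index ((centralizer {e}).subgroupOf Q), hj]
    exact Nat.mul_le_mul (Nat.le_of_dvd Nat.card_pos (b4.symm.dvd.trans (_root_.orderOf_dvd_natCard _)) : 4 ≤ _) (Nat.pow_le_pow_right two_pos b3 : 4 ≤ _)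
  · by_contra! h9
    obtain ⟨j, hj⟩ := R.pg.to_le R.le ⟨y, hy⟩
    replace hj : y ^ 2 ^ j = 1 := congrArg Subtype.val hj
    clear h3
    induction j generalizing y with
    | zero => exact h5 (by rw [(pow_one y).symm.trans hj, mul_one, one_mul])
    | succ j ih =>
      by_cases b3 : e * (y * y) = y * y * e
      · exact h5 (h7 y hy b3 fun b4 => h9 _ (h8 y hy) b4 e he.2)
      · exact ih _ (mul_mem hy hy) b3 (by rwa [← sq, ← pow_mul, ← pow_succ'])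

end LF

end Cfsg.Agent.BZ.L.F2
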