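import Cfsg.Agent.BZ.E2.Defs
import Cfsg.Agent.BZ.L.W1
import Cfsg.Agent.BZ.L.F2.Grp
import Cfsg.Agent.HZ.Gen.Rst
import Cfsg.Agent.KM.Si.L

/-!
# BZ / L, `l = 2` : the fixed lattice of a datum (helper5)

* `Fx B` : the fixed lattice; `Su` : the frame `F = t B`, `F ^ m = u B`, `u ≡ 1` modulo `r`;
* `Su.fix` (trivial modulo `r` is trivial), `Su.perp`, `Su.exists_act` (the action of `N(T_r)`), `Su.lf`;
* **`boxF2`**.
-/

set_option autoImplicit false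
set_option linter.unusedSectionVars false
set_option maxHeartbeats 400000

namespace Cfsg.Agent.BZ.L.F2

open Cfsg Subgroup Cfsg.Agent.DL Cfsg.Agent.KM Cfsg.Agent.KM.Ht Cfsg.Agent.KM.Tor Matrix Cfsg.Agent.BZ.E2

section Lat

variable {R : Type} [Fintype R] [DecidableEq R]

/-- the fixed lattice -/
def Fx (B : Matrix R R ℤ) : AddSubgroup (R → ℤ) where
  carrier := {v | B *ᵥ v = v}
  add_mem' {u v} h h' := by
    show B *ᵥ (u + v) = u + v
    rw [mulVec_add, h, h']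
  zero_mem' := mulVec_zero B
  neg_mem' {u} h := by
    show B *ᵥ (-u) = -u
    rw [mulVec_neg, h]

variable {B : Matrix R R ℤ}

theorem Fx.sat {c : ℤ} (hc : c ≠ 0) {v : R → ℤ} (h : c • v ∈ Fx B) : v ∈ Fx B :=
  smul_right_injective _ hc (by
    beta_reduce
    rw [← mulVec_smul]
    exact h)

theorem Fx.sep : Sep (Fx B) := fun _ h =>
  Subtype.ext (funext fun i => h (AddMonoidHom.mk' (fun x : Fx B => x.1 i) fun _ _ => rfl).toIntLinearMap)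

theorem coch_eq {k : Type} [Field k] {u v : R → ℤ} {ζ : kˣ} : coch u ζ = coch v ζ ↔ ∃ κ, u = v + (orderOf ζ : ℤ) • κ := by
  refine ⟨fun h => ?_, fun ⟨κ, e⟩ => by rw [e, coch_add, coch_zsmul, zpow_natCast, pow_orderOf_eq_one, map_one, mul_one]⟩
  have h1 : ∀ j, (orderOf ζ : ℤ) ∣ u j - v j := fun j => by
    rw [orderOf_dvd_iff_zpow_eq_one, _root_.zpow_sub, show ζ ^ u j = ζ ^ v j from congrFun h j, mul_inv_cancel]
  choose κ hκ using h1
  exact ⟨κ, funext fun j => eq_add_of_sub_eq' (hκ j)⟩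

/-- averaging -/
theorem avg_fix {π : Matrix R R ℤ} {h r : ℤ} (hr : 1 < r) (hc : IsCoprime h r) (c1 : B * π = π * B) (c2 : π * π = h • π)
    (c3 : ∀ v ∈ Fx B, ∃ y, π *ᵥ v = h • v + r • y) {v : R → ℤ} (hv : v ∈ Fx B) : π *ᵥ v = h • v := by
  have h1 : π *ᵥ v - h • v ∈ Fx B := sub_mem (show B *ᵥ π *ᵥ v = π *ᵥ v by rw [mulVec_mulVec, c1, ← mulVec_mulVec, hv]) (zsmul_mem hv h)
  refine sub_eq_zero.1 (congrArg Subtype.val (Fx.sep.div hr (U := fun w : Fx B => π *ᵥ w.1 = 0) (w := ⟨_, h1⟩) (fun w hw => ?_) ?_))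
  · obtain ⟨y, e⟩ := c3 _ w.2
    obtain ⟨a, b, e'⟩ := hc
    have h2 : w.1 = r • (b • w.1 - a • y) := by
      rw [hw] at e
      linear_combination (norm := module) -(a • e) - e' • w.1
    have h3 : r ≠ 0 := by omega
    refine ⟨⟨_, Fx.sat h3 (h2 ▸ w.2)⟩, smul_right_injective _ h3 ?_, Subtype.ext h2⟩
    beta_reduce
    rw [← mulVec_smul, ← h2, hw, smul_zero]
  · show π *ᵥ (π *ᵥ v - h • v) = 0
    rw [mulVec_sub, mulVec_mulVec, c2, smul_mulVec, mulVec_smul, sub_self]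

theorem geom_fix {n : ℕ} (h : B ^ n = 1) (v : R → ℤ) : (∑ i ∈ Finset.range n, B ^ i) *ᵥ v ∈ Fx B := by
  have h1 := mul_geom_sum B n
  rw [h, sub_self, Matrix.sub_mul, Matrix.one_mul, sub_eq_zero] at h1
  show B *ᵥ _ = _
  rw [mulVec_mulVec, h1]

end Lat

theorem rel_two {G Λ : Type} [Group G] [AddCommGroup Λ] (hs : Sep Λ) (a : G →* Module.End ℤ Λ) {u : Λ} (hu : u ≠ 0)
    (h : ∀ v, ∃ c : ℤ, v = c • u) {t : G} (ht : a t u = -u) : a.ker.index = 2 := by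
  have h1 : ∀ g, a g = 1 ↔ a g u = u := fun g => ⟨fun e => by rw [e]; rfl, fun e => LinearMap.ext fun v => by
    obtain ⟨c, rfl⟩ := h v
    rw [map_smul, e, Module.End.one_apply]⟩
  have h2 : ∀ c : ℤ, c • u = 0 → c = 0 := fun c e => by_contra fun hc => hu (hs.cancel hc (e.trans (smul_zero c).symm))
  refine index_eq_two_iff.2 ⟨t, fun g => ?_⟩
  obtain ⟨c, e⟩ := h (a g u)
  obtain ⟨c', e'⟩ := h (a g⁻¹ u)
  have h3 : c * c' = 1 := sub_eq_zero.1 (h2 _ (by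
    rw [sub_smul, one_smul, mul_smul, ← e', ← map_smul, ← e, ← Module.End.mul_apply, ← map_mul, inv_mul_cancel, map_one,
      Module.End.one_apply, sub_self]))
  have h4 : -u ≠ u := fun e => by
    have := h2 2 (by linear_combination (norm := module) -e)
    omega
  rw [MonoidHom.mem_ker, MonoidHom.mem_ker, h1, h1, map_mul, Module.End.mul_apply, ht, map_neg, e]
  rcases Int.eq_one_or_neg_one_of_mul_eq_one h3 with rfl | rfl
  · exact Or.inr ⟨one_smul _ _, by rwa [one_smul]⟩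
  · exact Or.inl ⟨by rw [neg_one_smul, neg_neg], by rwa [neg_one_smul]⟩

variable {p : ℕ} [Fact p.Prime] {k : Type} [Field k] [CharP k p] {Y : Type} [Group Y] {N : Type} [Fintype N]
  [DecidableEq N] {ρ : Y →* GL N k} {F : MulAut Y} {G : Subgroup Y} [IsAlgClosed k] (X : Datum p ρ F G)

/-- the frame -/
structure Su (m r n : ℕ) (t u : ℤ) (B : Matrix X.R X.R ℤ) : Prop where
  t0 : t ≠ 0
  u0 : u ≠ 0
  mx : X.Mx = t • B
  mm : X.Mx ^ m = u • B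
  bn : B ^ n = 1
  rp : r.Prime
  ne : r ≠ p
  rn : ¬ r ∣ n
  rw : ¬ r ∣ Nat.card X.W
  ur : (r : ℤ) ∣ u - 1

/-- the `r`-part of the torus -/
def Zs (m r : ℕ) : Set Y := Subtype.val '' (Pt F G m r X.T : Set (GF (F ^ m) G))

theorem zs_T {m r : ℕ} : Zs X m r ⊆ X.T := by
  rintro _ ⟨x, hx, rfl⟩
  exact ((W1.mem_Pt X le_rfl).1 hx).1

theorem mem_zs {m r : ℕ} {s : Y} : s ∈ Zs X m r ↔ s ∈ X.T ∧ (F ^ m) s = s ∧ ∃ j, s ^ r ^ j = 1 := by
  constructor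
  · rintro ⟨x, hx, rfl⟩
    obtain ⟨h1, j, h2⟩ := (W1.mem_Pt X le_rfl).1 hx
    exact ⟨h1, x.2.2, j, congrArg Subtype.val h2⟩
  · rintro ⟨h1, h2, j, h3⟩
    exact ⟨⟨s, X.T_le_G h1, h2⟩, (W1.mem_Pt X le_rfl).2 ⟨h1, j, Subtype.ext h3⟩, rfl⟩

theorem zs_F {m r : ℕ} : ∀ z ∈ Zs X m r, F z ∈ Zs X m r := fun z hz => by
  obtain ⟨h1, h2, j, h3⟩ := (mem_zs X).1 hz
  refine (mem_zs X).2 ⟨X.F_mem_T h1, ?_, j, by rw [← map_pow, h3, map_one]⟩
  show (F ^ m * F) z = F z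
  rw [← pow_succ, pow_succ', MulAut.mul_apply, h2]

theorem zs_nor {m r : ℕ} {g : GF (F ^ m) G} (hg : g ∈ normalizer (Pt F G m r X.T : Set (GF (F ^ m) G))) (z : Y) :
    z ∈ Zs X m r ↔ (g : Y) * z * (g : Y)⁻¹ ∈ Zs X m r := ⟨by
  rintro ⟨x, hx, rfl⟩
  exact ⟨_, (mem_normalizer_iff.1 hg x).1 hx, rfl⟩, by
  rintro ⟨x, hx, e⟩
  refine ⟨g⁻¹ * x * g, (mem_normalizer_iff.1 hg _).2 (by rwa [show g * (g⁻¹ * x * g) * g⁻¹ = x by group]), ?_⟩
  show (g : Y)⁻¹ * x * g = z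
  rw [e]
  group⟩

theorem τ_mem (c : X.R → kˣ) : X.τ c ∈ X.T := (X.mem_T _).2 ⟨c, rfl⟩

namespace Su

variable {X} {m r n : ℕ} {t u : ℤ} {B : Matrix X.R X.R ℤ} (h : Su X m r n t u B)
include h

theorem pow_τ (v : X.R → ℤ) (a : kˣ) : (F ^ m) (X.τ (coch v a)) = X.τ (coch (u • B *ᵥ v) a) := by
  rw [X.F_pow_τ, mon_coch, h.mm, smul_mulVec]

theorem fix_τ {v : X.R → ℤ} (hv : v ∈ Fx B) {ζ : kˣ} (hζ : (orderOf ζ : ℤ) ∣ u - 1) : (F ^ m) (X.τ (coch v ζ)) = X.τ (coch v ζ) := by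
  obtain ⟨c, e⟩ := hζ
  rw [h.pow_τ, hv, coch_eq.2 ⟨c • v, by rw [← mul_smul, ← e]; module⟩]

theorem exists_η : ∃ η : kˣ, orderOf η = r ∧ ∀ v ∈ Fx B, X.τ (coch v η) ∈ Zs X m r := by
  obtain ⟨η, e⟩ := exists_prim p k (n := r) fun e => h.ne ((Nat.prime_dvd_prime_iff_eq Fact.out h.rp).1 e).symm
  refine ⟨η, e, fun v hv => (mem_zs X).2 ⟨τ_mem X _, h.fix_τ hv (e ▸ h.ur), 1, ?_⟩⟩
  rw [pow_one, ← map_pow, ← map_pow, ← e, pow_orderOf_eq_one, map_one, map_one]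

theorem comm (w : X.W) : B * X.Wm w = X.Wm (X.Fw w) * B := smul_right_injective _ h.t0 (by
  beta_reduce
  rw [← Matrix.smul_mul, ← Matrix.mul_smul, ← h.mx, X.Mx_Wm])

/-- **an element of the Weyl group which is trivial on the fixed lattice modulo `r` is trivial on it** -/
theorem fix {w : X.W} (hw : ∀ v ∈ Fx B, ∃ y, X.Wm w *ᵥ v = v + (r : ℤ) • y) {v : X.R → ℤ} (hv : v ∈ Fx B) : X.Wm w *ᵥ v = v := by
  classical
  let H : Subgroup X.W :=
    { carrier := {w | ∀ v ∈ Fx B, ∃ y, X.Wm w *ᵥ v = v + (r : ℤ) • y}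
      one_mem' := fun v _ => ⟨0, by rw [X.Wm_one, one_mulVec, smul_zero, add_zero]⟩
      mul_mem' := fun {a b} ha hb v hv => by
        obtain ⟨y, e⟩ := ha v hv
        obtain ⟨y', e'⟩ := hb v hv
        exact ⟨y + X.Wm a *ᵥ y', by rw [X.Wm_mul, ← mulVec_mulVec, e', mulVec_add, e, mulVec_smul, smul_add, add_assoc]⟩
      inv_mem' := fun {a} ha v hv => by
        obtain ⟨y, e⟩ := ha v hv
        refine ⟨-X.Wm a⁻¹ *ᵥ y, ?_⟩
        have h1 := congrArg (X.Wm a⁻¹ *ᵥ ·) e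
        simp only [mulVec_mulVec, ← X.Wm_mul, inv_mul_cancel, X.Wm_one, one_mulVec, mulVec_add, mulVec_smul] at h1
        rw [neg_mulVec, smul_neg, eq_add_neg_iff_add_eq, ← h1] }
  let _ := Fintype.ofFinite H
  have h1 : ∀ a ∈ H, X.Fw a ∈ H := fun a ha v hv => by
    obtain ⟨y, e⟩ := ha v hv
    refine ⟨B *ᵥ y, ?_⟩
    have h2 := congrArg (· *ᵥ v) (h.comm a)
    simp only [← mulVec_mulVec, e, mulVec_add, mulVec_smul, show B *ᵥ v = v from hv] at h2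
    exact h2.symm
  have h2 : ∀ a ∈ H, X.Wm a * ∑ b : H, X.Wm b = ∑ b : H, X.Wm b := fun a ha => by
    rw [Finset.mul_sum, ← Equiv.sum_comp (Equiv.mulLeft (⟨a, ha⟩ : H)) fun b : H => X.Wm b]
    exact Finset.sum_congr rfl fun b _ => (X.Wm_mul _ _).symm
  have h3 := avg_fix (B := B) (π := ∑ b : H, X.Wm b) (h := Nat.card H) (r := r) (by exact_mod_cast h.rp.one_lt)
    (Nat.isCoprime_iff_coprime.2 ((Nat.Prime.coprime_iff_not_dvd h.rp).2 fun e => h.rw (e.trans (card_subgroup_dvd_card H))).symm)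
    (by
      have e : Function.Injective fun a : H => (⟨_, h1 a a.2⟩ : H) := fun a b e => Subtype.ext (X.Fw.injective (congrArg Subtype.val e))
      rw [Finset.mul_sum, Finset.sum_mul, ← Equiv.sum_comp (Equiv.ofBijective _ e.bijective_of_finite) fun b : H => X.Wm b * B]
      exact Finset.sum_congr rfl fun b _ => h.comm _)
    (by
      rw [Finset.sum_mul, Finset.sum_congr rfl fun (b : H) _ => h2 b b.2, Finset.sum_const, Finset.card_univ, Nat.card_eq_fintype_card,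
        natCast_zsmul])
    (fun v hv => by
      choose y hy using fun b : H => b.2 v hv
      refine ⟨∑ b, y b, ?_⟩
      rw [sum_mulVec, Finset.sum_congr rfl fun b _ => hy b, Finset.sum_add_distrib, Finset.sum_const, Finset.card_univ,
        Nat.card_eq_fintype_card, natCast_zsmul, Finset.smul_sum]) hv
  refine smul_right_injective _ (Int.natCast_ne_zero.2 (Nat.card_pos (α := H)).ne') ?_
  beta_reduce
  rw [← mulVec_smul, ← h3, mulVec_mulVec, h2 w hw]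

theorem perp {v : X.R → ℤ} (hv : v ∈ Fx B) : Pp X (X.Sz (Zs X m r)) v := fun b hb => by
  obtain ⟨η, e, hη⟩ := h.exists_η
  have h1 := h.fix (w := X.rf b) (fun v hv => by
    have h2 := hb.2 _ (hη v hv)
    rw [X.χ_τ, Units.val_eq_one, chr_coch, ← orderOf_dvd_iff_zpow_eq_one, e] at h2
    obtain ⟨c, h3⟩ := h2
    refine ⟨-c • X.cor b, ?_⟩
    rw [X.Wm_rf hb.1, sub_mulVec, one_mulVec, vecMulVec_mulVec, op_smul_eq_smul, show X.wt b ⬝ᵥ v = r * c from h3]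
    module) hv
  have h4 := X.wt_act (X.rf b) b
  rw [X.act_rf_self hb.1, map_neg, neg_vecMul, neg_eq_iff_eq_neg] at h4
  have h5 := dotProduct_mulVec (X.wt b) (X.Wm (X.rf b)) v
  rw [h1, h4, neg_dotProduct] at h5
  omega

theorem exists_f {g : GF (F ^ m) G} (hg : g ∈ normalizer (Pt F G m r X.T : Set (GF (F ^ m) G))) :
    ∃ (f : Module.End ℤ (Fx B)) (w : X.W), (∀ v, (f v : X.R → ℤ) = X.Wm w *ᵥ v) ∧
      (∀ c, X.τ c ∈ Zs X m r → (g : Y) * X.τ c * (g : Y)⁻¹ = X.τ (mon (X.Wm w) c)) ∧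
      ∀ (v : Fx B) a, (g : Y) * X.τ (coch v.1 a) * (g : Y)⁻¹ = X.τ (coch (f v).1 a) := by
  obtain ⟨w, w1, w2⟩ := W1.exists_w X (zs_T X) g.2.1 (zs_nor X hg)
  have h1 : ∀ v ∈ Fx B, X.Wm w *ᵥ v ∈ Fx B := fun v hv => by
    refine smul_right_injective _ h.u0 (coch_inj (k := k) fun a => X.τ_inj ?_)
    beta_reduce
    rw [← h.pow_τ, ← (w2 v (h.perp hv)).2, map_mul, map_mul, map_inv, mem_fix.1 g.2.2, h.pow_τ, hv,
      (w2 _ (h.perp (zsmul_mem hv u))).2, mulVec_smul]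
  exact ⟨(AddMonoidHom.mk' (fun v : Fx B => (⟨_, h1 v v.2⟩ : Fx B)) fun a b => Subtype.ext (mulVec_add _ _ _)).toIntLinearMap, w,
    fun _ => rfl, w1, fun v => (w2 v (h.perp v.2)).2⟩

/-- an element of the Weyl group which fixes the lattice fixes the `r`-part of the torus -/
theorem mon_eq {w : X.W} (hw : ∀ v ∈ Fx B, X.Wm w *ᵥ v = v) {c : X.R → kˣ} (hc : X.τ c ∈ Zs X m r) : mon (X.Wm w) c = c := by
  obtain ⟨-, h1, j, h2⟩ := (mem_zs X).1 hc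
  have c2 : c ^ (r : ℤ) ^ (j + 1) = 1 := X.τ_inj (by
    rw [← Nat.cast_pow, zpow_natCast, map_pow, pow_succ, pow_mul, h2, one_pow, map_one])
  have c3 : ∀ e : ℤ, ¬ (r : ℤ) ∣ e → IsCoprime e ((r : ℤ) ^ (j + 1)) := fun e he =>
    ((Nat.prime_iff_prime_int.1 h.rp).coprime_iff_not_dvd.2 he).symm.pow_right
  obtain ⟨u', b, c4⟩ := c3 u fun e => (Nat.prime_iff_prime_int.1 h.rp).not_dvd_one (by simpa using dvd_sub e h.ur)
  have c5 : mon B c = c ^ u' := by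
    rw [X.F_pow_τ, h.mm] at h1
    have := X.τ_inj h1
    rw [mon_zsmul] at this
    rw [← zpow_one (mon B c), ← c4, _root_.zpow_add, mul_comm u', mul_comm b, _root_.zpow_mul, _root_.zpow_mul, this, ← map_zpow, c2,
      map_one, _root_.one_zpow, mul_one]
  have c6 : u' ≡ 1 [ZMOD r] := by
    obtain ⟨e, he⟩ := h.ur
    exact (Int.modEq_iff_dvd.2 ⟨u' * e + b * r ^ j, by linear_combination u' * he - c4⟩)
  have c7 := W1.mon_aeval c5 (∑ i ∈ Finset.range n, Polynomial.X ^ i)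
  simp only [map_sum, map_pow, Polynomial.aeval_X, Polynomial.eval_finsetSum, Polynomial.eval_pow, Polynomial.eval_X] at c7
  obtain ⟨e, e', c8⟩ := c3 (∑ i ∈ Finset.range n, u' ^ i) fun e => h.rn (Int.natCast_dvd_natCast.1 (by
    have := (Int.ModEq.sum (s := Finset.range n) fun i _ => c6.pow i).dvd_iff.1 e
    simpa using this))
  have c9 : X.Wm w * ∑ i ∈ Finset.range n, B ^ i = ∑ i ∈ Finset.range n, B ^ i :=
    Matrix.ext_of_mulVec_single fun i => by rw [← mulVec_mulVec, hw _ (geom_fix h.bn _)]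
  have c10 := congrArg (mon · c) c9
  simp only [mon_mul, c7] at c10
  have c11 : c = (c ^ ∑ i ∈ Finset.range n, u' ^ i) ^ e := by
    rw [← _root_.zpow_mul, mul_comm, eq_sub_of_add_eq c8, _root_.zpow_sub, mul_comm e', _root_.zpow_mul, c2, _root_.one_zpow, inv_one,
      mul_one, zpow_one]
  rw [c11, map_zpow, c10]

/-- **the action of the normaliser on the fixed lattice** -/
theorem exists_act : ∃ a : normalizer (Pt F G m r X.T : Set (GF (F ^ m) G)) →* Module.End ℤ (Fx B),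
    (∀ g, ∃ w, ∀ v, (a g v : X.R → ℤ) = X.Wm w *ᵥ v) ∧
    (∀ g, a g = 1 ↔ g.1 ∈ centralizer (Pt F G m r X.T : Set (GF (F ^ m) G))) ∧
    ∀ g (v : Fx B) c, (g.1 : Y) * X.τ (coch v.1 c) * (g.1 : Y)⁻¹ = X.τ (coch (a g v).1 c) := by
  choose f w h1 h2 h3 using fun g : normalizer (Pt F G m r X.T : Set (GF (F ^ m) G)) => h.exists_f g.2
  refine ⟨⟨⟨f, LinearMap.ext fun v => Subtype.ext (coch_inj (k := k) fun c => X.τ_inj ?_)⟩, fun g g' =>
    LinearMap.ext fun v => Subtype.ext (coch_inj (k := k) fun c => X.τ_inj ?_)⟩, fun g => ⟨w g, h1 g⟩, fun g => ⟨fun e s hs => ?_, fun e => ?_⟩, h3⟩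
  · rw [← h3]
    simp
  · rw [← h3, Module.End.mul_apply, ← h3, ← h3]
    simp only [coe_mul]
    group
  · obtain ⟨c, e'⟩ := (X.mem_T _).1 (zs_T X ⟨s, hs, rfl⟩)
    have h4 : X.τ c ∈ Zs X m r := e' ▸ ⟨s, hs, rfl⟩
    have h5 := h2 g c h4
    rw [h.mon_eq (fun v hv => (h1 g ⟨v, hv⟩).symm.trans (congrArg Subtype.val (LinearMap.congr_fun e ⟨v, hv⟩))) h4, e'] at h5
    exact Subtype.ext (mul_inv_eq_iff_eq_mul.1 h5).symm
  · obtain ⟨η, e1, e2⟩ := h.exists_η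
    refine LinearMap.ext fun v => Subtype.ext ((h1 g v).trans (h.fix (fun v hv => ?_) v.2))
    obtain ⟨s, hs, e3⟩ := e2 v hv
    have h4 := h3 g ⟨v, hv⟩ η
    rw [← e3, ← show (s : Y) * g.1 = g.1 * s from congrArg Subtype.val (e s hs), mul_inv_cancel_right, e3, h1] at h4
    exact e1 ▸ coch_eq.1 (X.τ_inj h4).symm

theorem cen_le {e : GF (F ^ m) G} (he : e ∈ centralizer (Pt F G m r X.T : Set (GF (F ^ m) G))) : (e : Y) ∈ X.cen (Zs X m r) := by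
  have := Fact.mk h.rp
  rw [← HZ.Gen.cen_eq X h.rw (zs_T X) fun z hz => ((mem_zs X).1 hz).2.2]
  refine ⟨e.2.1, ?_⟩
  rintro _ ⟨s, hs, rfl⟩
  exact congrArg Subtype.val (he s hs)

/-- the points of the fixed lattice -/
def io {ζ : kˣ} (hζ : (orderOf ζ : ℤ) ∣ u - 1) (v : Fx B) : GF (F ^ m) G :=
  ⟨X.τ (coch v.1 ζ), X.T_le_G (τ_mem X _), h.fix_τ v.2 hζ⟩

theorem lf {S : Subgroup (GF (F ^ m) G)} (hS : S ≤ normalizer (Pt F G m r X.T : Set (GF (F ^ m) G)))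
    {a : normalizer (Pt F G m r X.T : Set (GF (F ^ m) G)) →* Module.End ℤ (Fx B)}
    (a1 : ∀ g, a g = 1 ↔ g.1 ∈ centralizer (Pt F G m r X.T : Set (GF (F ^ m) G)))
    (a2 : ∀ g (v : Fx B) c, (g.1 : Y) * X.τ (coch v.1 c) * (g.1 : Y)⁻¹ = X.τ (coch (a g v).1 c)) {ζ : kˣ}
    (hζ : (orderOf ζ : ℤ) ∣ u - 1) {j : ℕ} (hj : orderOf ζ = 2 ^ j) {e : ℤ} (he : (orderOf ζ : ℤ) = e) :
    LF (Pt F G m r X.T) (Pt F G m 2 X.T) S e (a.comp (inclusion hS)) (h.io hζ) where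
  sep := Fx.sep
  ker g := a1 (inclusion hS g)
  add v v' := Subtype.ext (by
    show X.τ (coch (v.1 + v'.1) ζ) = X.τ _ * X.τ _
    rw [coch_add, map_mul])
  mem v := (W1.mem_Pt X le_rfl).2 ⟨τ_mem X _, j, Subtype.ext (by
    show X.τ (coch v.1 ζ) ^ 2 ^ j = 1
    rw [← map_pow, ← map_pow, ← hj, pow_orderOf_eq_one, map_one, map_one])⟩
  one v := by
    have h1 : coch (0 : X.R → ℤ) ζ = 1 := funext fun _ => zpow_zero ζ
    have h2 : e ≠ 0 := by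
      rw [← he, hj]
      positivity
    rw [Subtype.ext_iff, show ((1 : GF (F ^ m) G) : Y) = X.τ (coch 0 ζ) by rw [h1, map_one, coe_one]]
    refine X.τ_inj.eq_iff.trans (coch_eq.trans ⟨fun ⟨κ, e'⟩ => ?_, fun ⟨κ, e'⟩ => ⟨κ.1, ?_⟩⟩)
    · rw [zero_add, he] at e'
      exact ⟨⟨κ, Fx.sat h2 (e' ▸ v.2)⟩, Subtype.ext e'⟩
    · rw [zero_add, he, e']
      rfl
  conj g v := Subtype.ext (a2 (inclusion hS g) v ζ)

/-- the involution and the root of the residual case -/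
theorem exists_root {ζ : kˣ} (hζ : orderOf ζ = 2) (hu : (2 : ℤ) ∣ u - 1) {y e : GF (F ^ m) G} (hy : y ∈ Pt F G m 2 X.T) (h2 : y * y = 1)
    (he : e ∈ centralizer (Pt F G m r X.T : Set (GF (F ^ m) G))) (hne : e * y ≠ y * e) :
    ∃ y' b, (∃ x, B *ᵥ y' = y' + (2 : ℤ) • x) ∧ b ∈ X.Sz (Zs X m r) ∧ ¬ 2 ∣ X.wt b ⬝ᵥ y' := by
  obtain ⟨c, e1⟩ := (X.mem_T _).1 ((W1.mem_Pt X le_rfl).1 hy).1
  have h1 : c * c = 1 := X.τ_inj (by rw [map_mul, e1, map_one, ← coe_mul, h2, coe_one])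
  have h3 : ∀ x : kˣ, x * x = 1 → x = 1 ∨ x = -1 := fun x e => by
    simpa only [Units.ext_iff, Units.val_neg, Units.val_one] using mul_self_eq_one_iff.1 (show (x : k) * x = 1 from congrArg Units.val e)
  have h4 : ζ = -1 := (h3 ζ (by rw [← sq, ← hζ, pow_orderOf_eq_one])).resolve_left fun e => by
    rw [e, orderOf_one] at hζ
    omega
  have h5 : ∀ i, ∃ z : ℤ, ζ ^ z = c i := fun i => (h3 _ (congrFun h1 i)).elim (fun e => ⟨0, by rw [e, zpow_zero]⟩)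
    fun e => ⟨1, by rw [e, zpow_one, h4]⟩
  choose y' hy' using h5
  obtain rfl : coch y' ζ = c := funext hy'
  have h6 := mem_fix.1 y.2.2
  rw [← e1, h.pow_τ] at h6
  obtain ⟨κ, e2⟩ := coch_eq.1 (X.τ_inj h6)
  obtain ⟨z, e3⟩ := hu
  rw [hζ, eq_add_of_sub_eq e3] at e2
  by_contra! h7
  refine hne (Subtype.ext (X.cen_le_centralizer (Z := {(y : Y)}) (Set.singleton_subset_iff.2 (e1 ▸ τ_mem X _))
    ((sup_le_sup_left (Nodes.BNOf.RGD.Sup_mono (S := X.Sz (Zs X m r)) (S' := X.Sz {(y : Y)}) fun b hb => ⟨hb.1, fun x hx => ?_⟩) _ :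
      X.cen (Zs X m r) ≤ X.cen {(y : Y)}) (h.cen_le he)) _ rfl).symm)
  rw [hx, ← e1, X.χ_τ, Units.val_eq_one, chr_coch, ← orderOf_dvd_iff_zpow_eq_one, hζ]
  exact h7 y' b ⟨κ - z • B *ᵥ y', by push_cast at e2; linear_combination (norm := module) e2⟩ hb

theorem main (hp : p ≠ 2) (h4 : (4 : ℤ) ∣ u - 1) (h8 : t % 8 = 5 ∨ (8 : ℤ) ∣ u - 1) {Z D S : Subgroup (GF (F ^ m) G)}
    [Finite (GF (F ^ m) G)] (hZ : ∀ z ∈ Z, (z : Y) ∈ Zc X {a | X.Rt a}) (h2 : Nat.card Z ≤ 2)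
    (o : Ou 2 Z D (Pt F G m r X.T) (Pt F G m 2 X.T) S) : ⁅D, D⁆ ≤ Z ∨ Rs X t Z D (Pt F G m r X.T) (Pt F G m 2 X.T) := by
  obtain ⟨a, a0, a1, a2⟩ := h.exists_act
  have z1 : Z ≤ center _ := fun g hg => mem_center_iff.2 fun x => Subtype.ext (X.cen_le_centralizer (Z := {(g : Y)})
    (Set.singleton_subset_iff.2 (hZ g hg).1)
    (Si.Lb.cen_of_all X (fun a ha => ⟨ha, fun z hz => Set.mem_singleton_iff.1 hz ▸ (hZ g hg).2 a ha⟩) x.2.1) _ rfl).symm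
  have q1 : Pt F G m 2 X.T ≤ centralizer (Pt F G m 2 X.T : Set (GF (F ^ m) G)) := fun _ hg _ ha =>
    Subtype.ext (X.T_comm ((W1.mem_Pt X le_rfl).1 ha).1 ((W1.mem_Pt X le_rfl).1 hg).1)
  have p1 : ∀ j : ℕ, ∃ ζ : kˣ, orderOf ζ = 2 ^ j := fun j => exists_prim p k fun e =>
    hp ((Nat.prime_dvd_prime_iff_eq Fact.out Nat.prime_two).1 ((Fact.out : p.Prime).dvd_of_dvd_pow e))
  rcases h8 with h8 | h8
  · obtain ⟨ζ, e⟩ := p1 2
    have e' : (orderOf ζ : ℤ) = 4 := by rw [e]; rfl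
    have L := h.lf o.res.sp a1 a2 (e' ▸ h4) e e'
    refine (L.main o.res z1 q1 h2 o.nq).imp_right ?_
    rintro ⟨g, x, v, b1, b2, b3, b4, y, b5, b6, f, b7, b8⟩
    refine ⟨h8, ?_, b3, b4, fun B' hB => ?_⟩
    · refine le_antisymm h2 (Z.one_lt_card_iff_ne_bot.2 fun e1 => ?_)
      obtain ⟨v', e2⟩ := (L.one _).1 (mem_bot.1 (e1 ▸ b2))
      have := congrArg x e2
      rw [map_add, map_smul, b1.one, smul_eq_mul] at this
      omega
    obtain rfl : B = B' := smul_right_injective _ h.t0 (h.mx.symm.trans hB)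
    obtain ⟨w, hw⟩ := a0 (inclusion o.res.sp g)
    obtain ⟨ξ, e1⟩ := p1 1
    obtain ⟨y', b, c1, c2, c3⟩ := h.exists_root e1 ((show (2 : ℤ) ∣ 4 by norm_num).trans h4) b5 b6 b7 b8
    refine ⟨w, v.1, y', b, ⟨v.2, (hw v).symm.trans (congrArg Subtype.val b1.neg), fun c hc => ?_, fun z e2 => ?_,
      fun z hz => ⟨x ⟨z, hz⟩, (hw ⟨z, hz⟩).symm.trans (congrArg Subtype.val (b1.eq ⟨z, hz⟩))⟩, c1, c2.1, fun z hz => h.perp hz b c2, c3⟩,
      fun hc => ?_⟩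
    · have h5 : X.χ c (X.τ (coch (v.1 + v.1) ζ)) = 1 := (hZ _ b2).2 c hc
      rw [X.χ_τ, Units.val_eq_one, chr_coch, ← orderOf_dvd_iff_zpow_eq_one, e'] at h5
      change 4 ∣ X.wt c ⬝ᵥ (v.1 + v.1) at h5
      rw [dotProduct_add] at h5
      omega
    · have h5 := congrArg x (show v = (2 : ℤ) • (⟨z, Fx.sat two_ne_zero (e2 ▸ v.2)⟩ : Fx B) from Subtype.ext e2)
      rw [map_smul, b1.one, smul_eq_mul] at h5
      omega
    · rw [relIndex, show (centralizer _).subgroupOf _ = a.ker from Subgroup.ext fun g => (a1 g).symm]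
      exact rel_two Fx.sep a (u := v) (fun e => by simpa [e] using b1.one)
        (fun z => (hc z.1 z.2).imp fun _ e => Subtype.ext e) b1.neg
  · obtain ⟨ζ, e⟩ := p1 3
    have e' : (orderOf ζ : ℤ) = 8 := by rw [e]; rfl
    exact Or.inl ((h.lf o.res.sp a1 a2 (e' ▸ h8) e e').eight o.res z1 q1 h2 o.nq)

end Su

theorem tq_pow {q d r m : ℕ} (hq : Odd q) (hd : orderOf (q : ZMod 4) = d) (hm : Odd m) (hr : Nr q d r m) : (r : ℤ) ∣ tq q ^ m - 1 := by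
  have := Fact.mk hr.rp
  rw [← ZMod.intCast_zmod_eq_zero_iff_dvd, tq]
  have h1 : orderOf ((q : ZMod r) ^ m) = d := by
    rw [orderOf_pow' _ hm.pos.ne', hr.ord, Nat.gcd_eq_right (dvd_mul_left m d), Nat.mul_div_cancel _ hm.pos]
  rw [← ZMod.natCast_mod q 4] at hd
  split_ifs with e
  · rw [e, Nat.cast_one, orderOf_one] at hd
    push_cast
    rw [orderOf_eq_one_iff.1 (h1.trans hd.symm), sub_self]
  · rw [show q % 4 = 3 by obtain ⟨j, rfl⟩ := hq; omega, orderOf_eq_prime (p := 2) (by decide) (by decide)] at hd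
    have h2 := pow_orderOf_eq_one ((q : ZMod r) ^ m)
    rw [h1, ← hd, sq, mul_self_eq_one_iff] at h2
    push_cast
    rw [hm.neg_pow, h2.resolve_left fun e => by rw [e, orderOf_one] at h1; omega, neg_neg, sub_self]

open HZ.Gen in
/-- **[F2]** -/
theorem boxF2 : BoxF2 := by
  intro p _ q d l n c hq
  by_cases hn : n = 0
  · exact Lg.of_forall fun m _ r _ _ _ _ _ _ _ _ _ _ _ _ _ X hC => absurd hC.n0 (by omega)
  refine (Lg.prime.and ((Lg.gt (2 * n + c)).and (Lg.modEq (mul_ne_zero two_ne_zero hn)))).mono ?_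
  rintro m ⟨hm, m1, m2⟩ r hr k _ _ Y _ N _ _ ρ F G _ X hC _ n' N' α M - - rfl Z D S hZ h2 o
  obtain ⟨f, f0, hf⟩ := hq.pq
  have p2 : p ≠ 2 := hq.ne.symm
  have q1 : Odd q := hf ▸ ((Fact.out : p.Prime).odd_of_ne_two p2).pow
  have m3 : Odd m := hm.odd_of_ne_two (by omega)
  have m4 := hr.mr
  obtain ⟨A, a1, a2⟩ := hC.lq 1
  rw [X.Wm_one, one_mul] at a1
  rw [Nat.cast_one, one_smul] at a2
  obtain ⟨B, b1, b2⟩ : ∃ B : Matrix X.R X.R ℤ, X.Mx = tq q • B ∧ B ^ (2 * n) = 1 := by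
    rw [tq]
    split_ifs
    · exact ⟨A, a1, by rw [mul_comm, pow_mul, a2, one_pow]⟩
    · exact ⟨-A, by rw [neg_smul_neg, a1], by rw [pow_mul, neg_sq, ← pow_mul, mul_comm, pow_mul, a2, one_pow]⟩
  have t1 : tq q % 4 = 1 := by
    obtain ⟨j, e⟩ := q1
    rw [tq]
    split_ifs <;> omega
  have t0 : tq q ≠ 0 := by omega
  have t2 : ∀ e : ℤ, e ∣ tq q - 1 → e ∣ tq q ^ m - 1 := fun e he => he.trans (sub_one_dvd_pow_sub_one _ m)
  have h : Su X m r (2 * n) (tq q) (tq q ^ m) B := ⟨t0, pow_ne_zero m t0, b1,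
    by rw [b1, smul_pow, pow_eq_pow_of_modEq m2 b2, pow_one], b2, hr.rp, ?_, Nat.not_dvd_of_pos_of_lt (by omega) (by omega),
    Nat.not_dvd_of_pos_of_lt Nat.card_pos (by have := hC.w; omega), tq_pow q1 hq.dl m3 hr⟩
  · exact h.main p2 (t2 4 (by omega)) ((em _).imp_right fun e => t2 8 (by omega)) hZ h2 o
  · rintro rfl
    have h3 := tq_pow q1 hq.dl m3 hr
    have h4 : (r : ℤ) ∣ tq q := by
      have : (r : ℤ) ∣ q := by exact_mod_cast hf ▸ dvd_pow_self r f0.ne'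
      rw [tq]
      split_ifs
      exacts [this, this.neg_right]
    exact (Nat.prime_iff_prime_int.1 hr.rp).not_dvd_one (by simpa using dvd_sub (dvd_pow h4 hm.ne_zero) h3)

end Cfsg.Agent.BZ.L.F2
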